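import Groth.Agent.Biell.K627.TorsRig
import Groth.Agent.S8124
import Groth.Agent.S1395
import Groth.Agent.Fga.JacSurj
import Groth.Agent.Grpsch.PicGrp
import Groth.Agent.Grpsch.CubeClosed
import Groth.Agent.Vancyc.H878.RelOmega
import Groth.Agent.Vancyc.H878.OmegaRank
import Groth.Agent.Krr.H482.PullFinal
import Groth.Agent.Sga67.TensorOps
import Groth.Agent.Canon.K769.EvalRow
import Groth.Agent.AbVar.K509.GeomDesc
import Groth.Prelude.Def_Canon
import Groth.Prelude.Def_Pic13
import Groth.Prelude.Def_LefMon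

/-!
# The order of the canonical sheaf in a family over a discrete valuation ring

* `geometricallyIntegral`: geometric integrality may be checked on fibres over algebraically closed fields;
* `triv_iff`: triviality of a class on the fibre at a field-valued point only depends on the image point;
* `main`: the order of the canonical sheaf on the two geometric fibres of a smooth proper family over a discrete
  valuation ring, given a common annihilator invertible in the ring.
-/

set_option autoImplicit false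
universe u
open CategoryTheory CategoryTheory.Limits AlgebraicGeometry

namespace K627.SpecOrder

open Groth.Agent Groth.Agent.Grpsch Groth.Agent.Grpsch.PicGrp Groth.Agent.Fga.JacSurj
  Groth.Agent.Fdesc.LocGen

variable {X S : Scheme.{u}}

theorem geometricallyIntegral (f : X ⟶ S) (h : ∀ (Ω : Type u) [Field Ω] [IsAlgClosed Ω]
    (s : Spec (CommRingCat.of Ω) ⟶ S), AlgebraicGeometry.IsIntegral (pullback f s)) : GeometricallyIntegral f := by
  rw [GeometricallyIntegral.eq_geometrically]
  intro K _ y Y' fst snd hp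
  let Ω := AlgebraicClosure K
  let a : Spec (CommRingCat.of Ω) ⟶ Spec (CommRingCat.of K) := Spec.map (CommRingCat.ofHom (algebraMap K Ω))
  have h1 : IsPullback (pullback.fst snd a ≫ fst) (pullback.snd snd a) f (a ≫ y) :=
    (IsPullback.of_hasPullback snd a).paste_horiz hp
  have h2 : AlgebraicGeometry.IsIntegral (pullback f (a ≫ y)) := h Ω (a ≫ y)
  have h3 : AlgebraicGeometry.IsIntegral (pullback snd a) := by
    have : Nonempty ↥(pullback snd a) := ⟨h1.isoPullback.inv (Classical.arbitrary _)⟩
    exact isIntegral_of_isOpenImmersion h1.isoPullback.hom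
  have h4 : Flat a := by
    rw [Flat.SpecMap_iff]
    exact RingHom.flat_algebraMap_iff.2 inferInstance
  have h5 : Surjective a := ⟨fun z => ⟨IsLocalRing.closedPoint Ω, by
    have : Subsingleton (Spec (CommRingCat.of K)) := inferInstanceAs (Subsingleton (PrimeSpectrum K))
    exact Subsingleton.elim _ _⟩⟩
  exact AbVar.K509.GeomDesc.isIntegral_of_flat_surjective (pullback.fst snd a)

theorem geometricallyConnected (f : X ⟶ S) [GeometricallyIntegral f] : GeometricallyConnected f := by
  rw [GeometricallyConnected.eq_geometrically]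
  intro K _ y Y' fst snd hp
  have h1 : AlgebraicGeometry.IsIntegral Y' := GeometricallyIntegral.geometrically_isIntegral (f := f) y fst snd hp
  infer_instance

theorem triv_iff (f : X ⟶ S) [IsProper f] [GeometricallyIntegral f] (c : Pic X) {K : Type u} [Field K]
    (s : Spec (CommRingCat.of K) ⟶ S) (t : S) (ht : s (IsLocalRing.closedPoint K) = t) :
    pull (pullback.fst f s) c = 1 ↔ pull (f.fiberι t) c = 1 := by
  obtain ⟨φ, hφ⟩ := exists_fsr s t ht
  have h1 : IsPullback (pullback.fst (f.fiberToSpecResidueField t) (Spec.map φ) ≫ f.fiberι t)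
      (pullback.snd _ _) f (Spec.map φ ≫ fsr S t) :=
    (IsPullback.of_hasPullback (f.fiberToSpecResidueField t) (Spec.map φ)).paste_horiz
      (IsPullback.of_hasPullback f (S.fromSpecResidueField t))
  rw [hφ] at h1
  have he : h1.isoPullback.hom ≫ pullback.fst f s = pullback.fst _ _ ≫ f.fiberι t :=
    h1.isoPullback_hom_fst
  constructor
  · intro h
    have h2 : pull (pullback.fst (f.fiberToSpecResidueField t) (Spec.map φ)) (pull (f.fiberι t) c) = 1 := by
      rw [← pull_comp, ← he, pull_comp, h, map_one]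
    generalize pull (f.fiberι t) c = d at h2 ⊢
    obtain ⟨L, hL, rfl⟩ := exists_mk d
    rw [pull_mk, mk_eq_one_iff] at h2
    rw [mk_eq_one_iff]
    let _ : Algebra (S.residueField t) K := φ.hom.toAlgebra
    have h3 : IsProper (f.fiberToSpecResidueField t) := inferInstanceAs (IsProper (pullback.snd _ _))
    have h4 : GeometricallyIntegral (f.fiberToSpecResidueField t) :=
      inferInstanceAs (GeometricallyIntegral (pullback.snd _ _))
    exact S8124.result (S.residueField t) (f.fiber t) (f.fiberToSpecResidueField t) L hL K h2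
  · intro h
    have : pullback.fst f s = h1.isoPullback.inv ≫ pullback.fst _ _ ≫ f.fiberι t :=
      h1.isoPullback_inv_fst.symm
    rw [this, pull_comp, pull_comp, h, map_one, map_one]

theorem isClosed_triv (f : X ⟶ S) [IsProper f] [Flat f] [LocallyOfFinitePresentation f] [GeometricallyIntegral f]
    (c : Pic X) : IsClosed {t : S | pull (f.fiberι t) c = 1} := by
  obtain ⟨L, hL, rfl⟩ := exists_mk c
  simp only [pull_mk, mk_eq_one_iff]
  exact CubeClosed.isClosed_trivialLocus f L hL

section DVR

variable {R : Type u} [CommRing R] [IsDomain R] [IsDiscreteValuationRing R]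

omit [IsDiscreteValuationRing R] in
theorem specMap_injective {K : Type u} [Field K] (φ : R →+* K) (hφ : Function.Injective φ) :
    Spec.map (CommRingCat.ofHom φ) (IsLocalRing.closedPoint K) = genericPoint ↑(Spec (CommRingCat.of R)) := by
  rw [genericPoint_eq_bot_of_affine]
  apply PrimeSpectrum.ext
  change Ideal.comap φ (IsLocalRing.maximalIdeal K) = ⊥
  rw [IsLocalRing.maximalIdeal_eq_bot]
  exact (RingHom.injective_iff_ker_eq_bot φ).1 hφ

theorem specMap_local {K : Type u} [Field K] (ψ : R →+* K)
    (hψ : ∀ x ∈ IsLocalRing.maximalIdeal R, ψ x = 0) :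
    Spec.map (CommRingCat.ofHom ψ) (IsLocalRing.closedPoint K) = IsLocalRing.closedPoint R := by
  apply PrimeSpectrum.ext
  change Ideal.comap ψ (IsLocalRing.maximalIdeal K) = IsLocalRing.maximalIdeal R
  have h1 : (Ideal.comap ψ (IsLocalRing.maximalIdeal K)).IsPrime := inferInstance
  refine (IsLocalRing.eq_maximalIdeal (I := Ideal.comap ψ (IsLocalRing.maximalIdeal K)) ?_)
  refine (le_antisymm (IsLocalRing.le_maximalIdeal h1.ne_top) ?_) ▸ (inferInstance : (IsLocalRing.maximalIdeal R).IsMaximal)
  intro x hx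
  rw [Ideal.mem_comap, hψ x hx]
  exact zero_mem _

/-- A class which is trivial at the generic point is trivial everywhere, if the closed fibre is integral. -/
theorem eq_one_of_generic (f : X ⟶ Spec (CommRingCat.of R)) [IsProper f] [Smooth f] [GeometricallyIntegral f]
    (c : Pic X) (h : pull (f.fiberι (genericPoint ↑(Spec (CommRingCat.of R)))) c = 1) : c = 1 := by
  obtain ⟨L, hL, rfl⟩ := exists_mk c
  rw [pull_mk, mk_eq_one_iff] at h
  rw [mk_eq_one_iff]
  have hc : GeometricallyConnected f := geometricallyConnected f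
  have hint : AlgebraicGeometry.IsIntegral (f.fiber (IsLocalRing.closedPoint R)) := inferInstance
  refine S1395.result f L hL h hint ?_
  have h1 : IsProper (f.fiberToSpecResidueField (genericPoint ↑(Spec (CommRingCat.of R)))) :=
    inferInstanceAs (IsProper (pullback.snd _ _))
  have h2 : Smooth (f.fiberToSpecResidueField (genericPoint ↑(Spec (CommRingCat.of R)))) :=
    inferInstanceAs (Smooth (pullback.snd _ _))
  have h3 : GeometricallyConnected (f.fiberToSpecResidueField (genericPoint ↑(Spec (CommRingCat.of R)))) :=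
    inferInstanceAs (GeometricallyConnected (pullback.snd _ _))
  have h4 := K769.EvalBase.isIso_app (f.fiberToSpecResidueField (genericPoint ↑(Spec (CommRingCat.of R)))) ⊤
  exact ConcreteCategory.bijective_of_isIso (Scheme.Hom.app (f.fiberToSpecResidueField
    (genericPoint ↑(Spec (CommRingCat.of R)))) ⊤)

/-- Specialisation and generisation of the triviality of a class with a given annihilator. -/
theorem main (f : X ⟶ Spec (CommRingCat.of R)) [IsProper f] [Smooth f] [GeometricallyIntegral f]
    (c : Pic X) (h : ℕ) (hh : IsUnit (h : R))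
    (K : Type u) [Field K] (φ : R →+* K) (hφ : Function.Injective φ)
    (κ : Type u) [Field κ] (ψ : R →+* κ) (hψ : ∀ x ∈ IsLocalRing.maximalIdeal R, ψ x = 0)
    (htors : pull (pullback.fst f (Spec.map (CommRingCat.ofHom φ))) (c ^ h) = 1) :
    pull (pullback.fst f (Spec.map (CommRingCat.ofHom φ))) c = 1 ↔
      pull (pullback.fst f (Spec.map (CommRingCat.ofHom ψ))) c = 1 := by
  have hK := specMap_injective φ hφ
  have hκ := specMap_local ψ hψ
  constructor
  · intro h1
    rw [triv_iff f c _ _ hK] at h1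
    rw [eq_one_of_generic f c h1, map_one]
  · intro h1
    rw [triv_iff f c _ _ hκ] at h1
    rw [triv_iff f _ _ _ hK] at htors
    have h2 : c ^ h = 1 := eq_one_of_generic f _ htors
    have h3 : pull (pullback.fst f (Spec.map (CommRingCat.ofHom
        (algebraMap R (IsLocalRing.ResidueField R))))) c = 1 := by
      rw [triv_iff f c _ (IsLocalRing.closedPoint R) ?_]
      · exact h1
      · exact specMap_local _ fun x hx => (IsLocalRing.residue_eq_zero_iff x).2 hx
    obtain ⟨L, hL, rfl⟩ := exists_mk c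
    rw [← mk_tensorPow, mk_eq_one_iff] at h2
    rw [pull_mk, mk_eq_one_iff] at h3
    have hne : Nonempty X := by
      have hint : AlgebraicGeometry.IsIntegral (f.fiber (IsLocalRing.closedPoint R)) := inferInstance
      exact ⟨f.fiberι (IsLocalRing.closedPoint R) (Classical.arbitrary _)⟩
    have hc : GeometricallyConnected f := geometricallyConnected f
    have h4 : IsIso f.appTop := K769.EvalBase.isIso_app f ⊤
    have h5 := (mk_eq_one_iff hL).2 (K627.TorsRig.trivial_of_torsion R X f hne h4 h hh L hL h2 h3)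
    rw [h5, map_one]

end DVR

/-- The canonical sheaf of a base change. -/
theorem nonempty_iso_canonical (f : X ⟶ S) [Smooth f] [QuasiSeparated f] (n : ℕ) {ω : X.Modules} (hω : Canon.IsTopDiff f n ω)
    {T : Scheme.{u}} (s : T ⟶ S) {ω' : (pullback f s).Modules} (hω' : Canon.IsTopDiff (pullback.snd f s) n ω') :
    Nonempty ((Scheme.Modules.pullback (pullback.fst f s)).obj ω ≅ ω') := by
  have hE : FlatMod.IsFinLocFree (Omega.sheaf f) := Vancyc.H878.OmegaRank.isFinLocFree_omega f
  have h1 := Krr.H482.PullFinal.isExtPow_pullback (pullback.fst f s) hE hω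
  exact Sga67.TensorOps.nonempty_iso_of_isExtPow
    (Vancyc.H878.RelOmega.omegaBC (IsPullback.of_hasPullback f s)) h1 hω'

/-- `T1`: the order of the canonical sheaf of a bielliptic surface divides 4 or 6. -/
def T1 : Prop := ∀ (k : Type u) [Field k] [IsAlgClosed k] (X : Scheme.{u}) [X.Over (Spec (CommRingCat.of k))]
    [AlgebraicGeometry.IsIntegral X] [IsProper (X ↘ Spec (CommRingCat.of k))]
    [SmoothOfRelativeDimension 2 (X ↘ Spec (CommRingCat.of k))]
    (_hproj : ∃ H : X.Modules, CohB1.IsAmple H)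
    (ω : X.Modules) (_hω : Canon.IsTopDiff (X ↘ Spec (CommRingCat.of k)) 2 ω) (_hnum : Pic13.IsNumEquivZero k X ω)
    (_hb2 : ∀ ℓ : ℕ, ℓ.Prime → (ℓ : k) ≠ 0 → EtAdic.betti X ℓ 2 = 2) (_h6 : (6 : k) ≠ 0),
    Nonempty (CohB1.tensorPow ω 4 ≅ Coh.structureModule X) ∨ Nonempty (CohB1.tensorPow ω 6 ≅ Coh.structureModule X)

theorem pow_twelve {Y : Scheme.{u}} {ω : Y.Modules} (hω : PicF.IsInvertible ω)
    (h : Nonempty (CohB1.tensorPow ω 4 ≅ Coh.structureModule Y) ∨
      Nonempty (CohB1.tensorPow ω 6 ≅ Coh.structureModule Y)) : mk ω hω ^ 12 = 1 := by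
  rcases h with h | h
  · have h1 := (mk_eq_one_iff (isInvertible_tensorPow hω 4)).2 h
    rw [mk_tensorPow hω] at h1
    rw [show 12 = 4 * 3 from rfl, pow_mul, h1, one_pow]
  · have h1 := (mk_eq_one_iff (isInvertible_tensorPow hω 6)).2 h
    rw [mk_tensorPow hω] at h1
    rw [show 12 = 6 * 2 from rfl, pow_mul, h1, one_pow]

theorem result (t1 : T1.{u})
    (R : Type u) [CommRing R] [IsDomain R] [IsDiscreteValuationRing R]
    (h6 : IsUnit (6 : R))
    (X : Scheme.{u}) (f : X ⟶ Spec (CommRingCat.of R)) [IsProper f] [SmoothOfRelativeDimension 2 f]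
    (hfib : ∀ (Ω : Type u) [Field Ω] [IsAlgClosed Ω] (s : Spec (CommRingCat.of Ω) ⟶ Spec (CommRingCat.of R)),
      AlgebraicGeometry.IsIntegral (pullback f s) ∧ (∃ H : (pullback f s).Modules, CohB1.IsAmple H) ∧
        (∃ ω' : (pullback f s).Modules, Canon.IsTopDiff (pullback.snd f s) 2 ω' ∧ @Pic13.IsNumEquivZero Ω _ (pullback f s) ⟨pullback.snd f s⟩ ω') ∧
        ∀ ℓ : ℕ, ℓ.Prime → (ℓ : Ω) ≠ 0 → EtAdic.betti (pullback f s) ℓ 2 = 2)
    (K : Type u) [Field K] [IsAlgClosed K] (φ : R →+* K) (hφ : Function.Injective φ)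
    (κ : Type u) [Field κ] [IsAlgClosed κ] (ψ : R →+* κ) (hψ : ∀ x ∈ IsLocalRing.maximalIdeal R, ψ x = 0)
    (ωK : (pullback f (Spec.map (CommRingCat.ofHom φ))).Modules)
    (hωK : Canon.IsTopDiff (pullback.snd f (Spec.map (CommRingCat.ofHom φ))) 2 ωK)
    (ωκ : (pullback f (Spec.map (CommRingCat.ofHom ψ))).Modules)
    (hωκ : Canon.IsTopDiff (pullback.snd f (Spec.map (CommRingCat.ofHom ψ))) 2 ωκ) (n : ℕ) :
    Nonempty (CohB1.tensorPow ωK n ≅ Coh.structureModule (pullback f (Spec.map (CommRingCat.ofHom φ)))) ↔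
      Nonempty (CohB1.tensorPow ωκ n ≅ Coh.structureModule (pullback f (Spec.map (CommRingCat.ofHom ψ)))) := by
  have hs : Smooth f := SmoothOfRelativeDimension.smooth 2 f
  have hgi : GeometricallyIntegral f := geometricallyIntegral f fun Ω _ _ s => (hfib Ω s).1
  obtain ⟨ω, hω⟩ := Krr.H482.PullFinal.exists_isExtPow' X 2 _ (Vancyc.H878.OmegaRank.isFinLocFree_omega f)
  have hωi : PicF.IsInvertible ω := K769.EvalRow.isInvertible_canonical f 2 hω
  obtain ⟨eK⟩ := nonempty_iso_canonical f 2 hω _ hωK
  obtain ⟨eκ⟩ := nonempty_iso_canonical f 2 hω _ hωκ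
  have hiK : PicF.IsInvertible ωK := K769.EvalRow.isInvertible_of_iso eK (isInvertible_pullback _ hωi)
  have hiκ : PicF.IsInvertible ωκ := K769.EvalRow.isInvertible_of_iso eκ (isInvertible_pullback _ hωi)
  have hK : pull (pullback.fst f (Spec.map (CommRingCat.ofHom φ))) (mk ω hωi) = mk ωK hiK :=
    (mk_eq_iff _ _).2 ⟨eK⟩
  have hκ : pull (pullback.fst f (Spec.map (CommRingCat.ofHom ψ))) (mk ω hωi) = mk ωκ hiκ :=
    (mk_eq_iff _ _).2 ⟨eκ⟩
  -- the canonical sheaf of the geometric generic fibre has order dividing 12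
  have h12 : mk ωK hiK ^ 12 = 1 := by
    obtain ⟨h1, h2, ⟨ω', h3, h4⟩, h5⟩ := hfib K (Spec.map (CommRingCat.ofHom φ))
    let _ : (pullback f (Spec.map (CommRingCat.ofHom φ))).Over (Spec (CommRingCat.of K)) :=
      ⟨pullback.snd f (Spec.map (CommRingCat.ofHom φ))⟩
    obtain ⟨e'⟩ := Sga67.TensorOps.nonempty_iso_of_isExtPow (Iso.refl _) h3 hωK
    have hi' : PicF.IsInvertible ω' := K769.EvalRow.isInvertible_of_iso e'.symm hiK
    have h6' : (6 : K) ≠ 0 := by
      have := (h6.map φ).ne_zero
      rwa [map_ofNat] at this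
    have hp : IsProper ((pullback f (Spec.map (CommRingCat.ofHom φ))) ↘ Spec (CommRingCat.of K)) :=
      inferInstanceAs (IsProper (pullback.snd _ _))
    have hsm : SmoothOfRelativeDimension 2 ((pullback f (Spec.map (CommRingCat.ofHom φ))) ↘ Spec (CommRingCat.of K)) :=
      (smoothOfRelativeDimension_isStableUnderBaseChange 2).of_isPullback (.of_hasPullback f _) ‹_›
    have h7 := pow_twelve hi' (t1 K (pullback f (Spec.map (CommRingCat.ofHom φ))) h2 ω' h3 h4 h5 h6')
    rwa [(mk_eq_iff hi' hiK).2 ⟨e'⟩] at h7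
  rw [← mk_eq_one_iff (isInvertible_tensorPow hiK n), ← mk_eq_one_iff (isInvertible_tensorPow hiκ n),
    mk_tensorPow hiK, mk_tensorPow hiκ, ← hK, ← hκ, ← map_pow, ← map_pow]
  have h12u : IsUnit ((12 : ℕ) : R) := by
    have h2 : IsUnit (2 : R) := isUnit_of_dvd_unit ⟨3, by norm_num⟩ h6
    have := h6.mul h2
    norm_num at this ⊢
    exact this
  refine main f _ 12 h12u K φ hφ κ ψ hψ ?_
  rw [← pow_mul, mul_comm, pow_mul, map_pow, map_pow, hK, h12, one_pow]

end K627.SpecOrder
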